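import Cfsg.Agent.Lib.FLU.FE

/-! # Common fusion passes to centralizers and normalizers -/

set_option autoImplicit false

namespace H73.FL

open Subgroup Cfsg H69

variable {W G G' : Type*} [Group W] [Group G] [Group G'] {i : W →* G} {j : W →* G'}
  {L : Subgroup G} {L' : Subgroup G'}

theorem Fz.ker (h : Fz L L' i j) : i.ker = j.ker :=
  Subgroup.ext fun _ => ⟨fun e => h.fw.one e, fun e => h.bw.one e⟩

theorem Fz.card_map (h : Fz L L' i j) (X : Subgroup W) : Nat.card (X.map i) = Nat.card (X.map j) := by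
  rw [← relIndex_ker, ← relIndex_ker, h.ker]

theorem Fz.comap_map (h : Fz L L' i j) (X : Subgroup W) : (X.map i).comap i = (X.map j).comap j := by
  rw [comap_map_eq, comap_map_eq, h.ker]

theorem Fz.mem_map (h : Fz L L' i j) {X : Subgroup W} {x : W} : i x ∈ X.map i ↔ j x ∈ X.map j :=
  SetLike.ext_iff.1 (h.comap_map X) x

theorem Fz.commute (h : Fz L L' i j) {x y : W} : i x * i y = i y * i x ↔ j x * j y = j y * j x := by
  simp only [← map_mul]
  exact ⟨h.fw.eq, h.bw.eq⟩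

theorem Fz.comap_cent (h : Fz L L' i j) (X : Subgroup W) :
    𝐂(X.map i).comap i = 𝐂(X.map j).comap j := Subgroup.ext fun y => by
  simp only [mem_comap, mem_centralizer_iff, coe_map, Set.forall_mem_image, h.commute]

theorem Fw.cj (h : Fw L L' i j) {g : G} (hg : g ∈ L) :
    ∃ g' ∈ L', (∀ x y : W, i y = g * i x * g⁻¹ → j y = g' * j x * g'⁻¹) ∧
      ∀ X Y : Subgroup W, X.map i ^ᶜ g ≤ Y.map i → X.map j ^ᶜ g' ≤ Y.map j := by
  obtain ⟨g', hg', d⟩ := h g hg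
  refine ⟨g', hg', d, fun X Y e => ?_⟩
  rintro _ ⟨_, ⟨x, hx, rfl⟩, rfl⟩
  obtain ⟨y, hy, k⟩ := e (cj_mem g ⟨x, hx, rfl⟩)
  exact ⟨y, hy, d x y k⟩

theorem range_sub (i : W →* G) (A : Subgroup G) : (i.comp (A.comap i).subtype).range = i.range ⊓ A := by
  rw [MonoidHom.range_comp, range_subtype, map_comap_eq]

variable [Finite G] [Finite G']

omit [Finite G] in
theorem Fz.comap_norm_le (h : Fz L L' i j) (X : Subgroup W) :
    𝐍(X.map i).comap i ≤ 𝐍(X.map j).comap j := by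
  intro y hy
  refine mem_normalizer_of_cj_le ?_
  rintro _ ⟨_, ⟨x, hx, rfl⟩, rfl⟩
  have := conj_mem_of_mem_normalizer (mem_comap.1 hy) (mem_map_of_mem i hx)
  rw [← map_inv, ← map_mul, ← map_mul, h.mem_map, map_mul, map_mul, map_inv] at this
  exact this

theorem Fz.comap_norm (h : Fz L L' i j) (X : Subgroup W) :
    𝐍(X.map i).comap i = 𝐍(X.map j).comap j :=
  le_antisymm (h.comap_norm_le X) (h.symm.comap_norm_le X)

omit [Finite G] [Finite G'] in
theorem Fw.cent (h : Fw L L' i j) (X Y : Subgroup W) :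
    Fw (L ⊓ 𝐂(X.map i)) (L' ⊓ 𝐂(X.map j)) (i.comp Y.subtype) (j.comp Y.subtype) := by
  intro g hg
  obtain ⟨g', hg', d⟩ := h g hg.1
  refine ⟨g', ⟨hg', mem_centralizer_iff.2 ?_⟩, fun x y => d x y⟩
  rintro _ ⟨x, hx, rfl⟩
  exact eq_mul_inv_iff_mul_eq.1 (d x x (conj_eq_of_mem_centralizer hg.2 ⟨x, hx, rfl⟩).symm)

omit [Finite G] in
theorem Fw.norm (h : Fw L L' i j) (X Y : Subgroup W) :
    Fw (L ⊓ 𝐍(X.map i)) (L' ⊓ 𝐍(X.map j)) (i.comp Y.subtype) (j.comp Y.subtype) := by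
  intro g hg
  obtain ⟨g', hg', d, e⟩ := h.cj hg.1
  exact ⟨g', ⟨hg', mem_normalizer_of_cj_le (e X X (cj_eq_of_mem_normalizer hg.2).le)⟩,
    fun x y => d x y⟩

/-- Transfer of the Sylow property along a construction `A` (centralizer or normalizer). -/
theorem Fz.syl_of (h : Fz L L' i j) (X : Subgroup W) {A : Subgroup G → Subgroup G}
    {A' : Subgroup G' → Subgroup G'} (c : ∀ Y g, A Y ^ᶜ g = A (Y ^ᶜ g))
    (c' : ∀ Y g, A' Y ^ᶜ g = A' (Y ^ᶜ g)) (n' : ∀ Y, A' Y ≤ 𝐍(Y))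
    (e : ∀ Y : Subgroup W, (A (Y.map i)).comap i = (A' (Y.map j)).comap j)
    (s : IsSylowIn 2 (i.range ⊓ A (X.map i)) (L ⊓ A (X.map i))) :
    IsSylowIn 2 (j.range ⊓ A' (X.map j)) (L' ⊓ A' (X.map j)) := by
  have := Fact.mk Nat.prime_two
  obtain ⟨T, hT⟩ := exists_isSylowIn 2 (L' ⊓ A' (X.map j))
  have xl : X.map j ≤ j.range := map_le_range j X
  obtain ⟨g', hg', l⟩ := h.sj.exists_cj_le (R := T ⊔ X.map j)
    (IsPGroup.to_sup_of_normal_right' hT.isP (h.sj.isP.to_le xl) ((hT.le.trans inf_le_right).trans (n' _)))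
    (sup_le (hT.le.trans inf_le_left) (xl.trans h.sj.le))
  rw [cj_sup, sup_le_iff] at l
  obtain ⟨g, hg, -, d⟩ := h.bw.cj hg'
  let X' := (X.map j ^ᶜ g').comap j
  have x1 : X'.map j = X.map j ^ᶜ g' := map_comap_eq_self l.2
  have x2 : X.map i ^ᶜ g = X'.map i := eq_of_le_of_card_ge (d X X' x1.ge)
    (by rw [card_cj, h.card_map, h.card_map, x1, card_cj])
  let Y := (T ^ᶜ g').comap j
  have y1 : Y.map j = T ^ᶜ g' := map_comap_eq_self l.1
  have y2 : Y.map i ≤ A (X.map i) ^ᶜ g := by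
    rw [c, x2, map_le_iff_le_comap, e, ← map_le_iff_le_comap, y1, x1, ← c']
    exact cj_mono g' (hT.le.trans inf_le_right)
  have := (s.cj g).card_le (R := Y.map i) (h.si.isP.to_le (map_le_range i Y)) (by
    rw [cj_inf, cj_eq_of_mem hg]
    exact le_inf ((map_le_range i Y).trans h.si.le) y2)
  rw [card_cj, h.card_map, y1, card_cj, ← map_comap_eq, h.card_map, e, map_comap_eq] at this
  exact hT.of_card_le (h.sj.isP.to_le inf_le_left) (inf_le_inf_right _ h.sj.le) this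

/-- Common fusion in the centralizers of a fully centralized subgroup. -/
theorem Fz.cent (h : Fz L L' i j) (X : Subgroup W)
    (s : IsSylowIn 2 (i.range ⊓ 𝐂(X.map i)) (L ⊓ 𝐂(X.map i))) :
    Fz (L ⊓ 𝐂(X.map i)) (L' ⊓ 𝐂(X.map j)) (i.comp (𝐂(X.map i).comap i).subtype)
      (j.comp (𝐂(X.map i).comap i).subtype) := by
  refine ⟨range_sub i _ ▸ s, ?_, h.fw.cent X _, h.bw.cent X _⟩
  rw [h.comap_cent, range_sub]
  exact h.syl_of X (A := fun Y => 𝐂(Y)) (A' := fun Y => 𝐂(Y)) cj_centralizer cj_centralizer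
    (fun _ => centralizer_le_normalizer _) h.comap_cent s

/-- Common fusion in the normalizers of a fully normalized subgroup. -/
theorem Fz.norm (h : Fz L L' i j) (X : Subgroup W)
    (s : IsSylowIn 2 (i.range ⊓ 𝐍(X.map i)) (L ⊓ 𝐍(X.map i))) :
    Fz (L ⊓ 𝐍(X.map i)) (L' ⊓ 𝐍(X.map j)) (i.comp (𝐍(X.map i).comap i).subtype)
      (j.comp (𝐍(X.map i).comap i).subtype) := by
  refine ⟨range_sub i _ ▸ s, ?_, h.fw.norm X _, h.bw.norm X _⟩
  rw [h.comap_norm, range_sub]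
  exact h.syl_of X (A := fun Y => 𝐍(Y)) (A' := fun Y => 𝐍(Y)) cj_normalizer cj_normalizer
    (fun _ => le_rfl) h.comap_norm s

omit [Finite G'] in
/-- Every subgroup of `W` is fused to a fully centralized and fully normalized one. -/
theorem exists_full (s : IsSylowIn 2 i.range L) (X : Subgroup W) : ∃ g ∈ L, ∃ X' : Subgroup W,
    X'.map i = X.map i ^ᶜ g ∧ IsSylowIn 2 (i.range ⊓ 𝐍(X'.map i)) (L ⊓ 𝐍(X'.map i)) ∧
      IsSylowIn 2 (i.range ⊓ 𝐂(X'.map i)) (L ⊓ 𝐂(X'.map i)) := by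
  have := Fact.mk Nat.prime_two
  have xl : X.map i ≤ i.range := map_le_range i X
  obtain ⟨T, hT, xt⟩ := exists_isSylowIn_le (L := L ⊓ 𝐍(X.map i)) (s.isP.to_le xl)
    (le_inf (xl.trans s.le) le_normalizer)
  obtain ⟨g, hg, l⟩ := s.exists_cj_le hT.isP (hT.le.trans inf_le_left)
  have e : ((X.map i ^ᶜ g).comap i).map i = X.map i ^ᶜ g := map_comap_eq_self ((cj_mono g xt).trans l)
  have t := hT.cj g
  rw [cj_inf, cj_eq_of_mem hg, cj_normalizer] at t
  have u : IsSylowIn 2 (i.range ⊓ 𝐍(X.map i ^ᶜ g)) (L ⊓ 𝐍(X.map i ^ᶜ g)) :=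
    t.of_card_le (s.isP.to_le inf_le_left) (inf_le_inf_right _ s.le)
      (card_le_of_le (le_inf l (t.le.trans inf_le_right)))
  refine ⟨g, hg, _, e, e.symm ▸ u, ?_⟩
  rw [e]
  have := u.inf_normal (N := L ⊓ 𝐂(X.map i ^ᶜ g)) (inf_le_inf_left _ (centralizer_le_normalizer _))
    (le_normalizer_inf (le_normalizer_of_le inf_le_left) (le_normalizer_centralizer inf_le_right))
  rwa [show i.range ⊓ 𝐍(X.map i ^ᶜ g) ⊓ (L ⊓ 𝐂(X.map i ^ᶜ g)) = i.range ⊓ 𝐂(X.map i ^ᶜ g) from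
    le_antisymm (inf_le_inf inf_le_left inf_le_right) (le_inf (inf_le_inf_left _
      (centralizer_le_normalizer _)) (inf_le_inf_right _ s.le))] at this

omit [Finite G] [Finite G'] in
/-- From subgroups to groups. -/
theorem Fz.fe_sub (h : Fz L L' i j) : FE L L' := by
  refine Fz.fe (i := i.codRestrict L fun x => h.si.le ⟨x, rfl⟩)
    (j := j.codRestrict L' fun x => h.sj.le ⟨x, rfl⟩) ⟨?_, ?_, fun g _ => ?_, fun g _ => ?_⟩
  · have := h.si.subgroupOf_top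
    rwa [show i.range.subgroupOf L = (i.codRestrict L fun x => h.si.le ⟨x, rfl⟩).range from Subgroup.ext fun u =>
      ⟨fun ⟨v, hv⟩ => ⟨v, Subtype.ext hv⟩, fun ⟨v, hv⟩ => ⟨v, congrArg Subtype.val hv⟩⟩] at this
  · have := h.sj.subgroupOf_top
    rwa [show j.range.subgroupOf L' = (j.codRestrict L' fun x => h.sj.le ⟨x, rfl⟩).range from Subgroup.ext fun u =>
      ⟨fun ⟨v, hv⟩ => ⟨v, Subtype.ext hv⟩, fun ⟨v, hv⟩ => ⟨v, congrArg Subtype.val hv⟩⟩] at this
  · obtain ⟨g', hg', d⟩ := h.fw g g.2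
    exact ⟨⟨g', hg'⟩, trivial, fun x y e => Subtype.ext (d x y (congrArg Subtype.val e))⟩
  · obtain ⟨g', hg', d⟩ := h.bw g g.2
    exact ⟨⟨g', hg'⟩, trivial, fun x y e => Subtype.ext (d x y (congrArg Subtype.val e))⟩

end H73.FL
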