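import Cfsg.Agent.Lib.FLU.ORD

/-! # Orders in every dimension -/

set_option autoImplicit false

namespace H73.FL

open Subgroup Cfsg H69 Matrix
open Equiv (Perm)
open scoped MatrixGroups Nat

/-- The exponent of the order of the diagonal part. -/
def vL (n a : ℕ) (s : Bool) : ℕ := bif s then n * a else n / 2 * (a + 1) + n % 2

/-- The exponent of the 2-part of `n !`. -/
def vS (n : ℕ) : ℕ := n / 2 + padicValNat 2 (n / 2)!

/-- The exponent of the 2-part of the order of the general linear group. -/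
def vN (n a : ℕ) (s : Bool) : ℕ := vL n a s + vS n

theorem V2.of_ne {m : ℕ} (h : m ≠ 0) : V2 m (padicValNat 2 m) := by
  obtain ⟨j, u, hu, e⟩ := Nat.exists_eq_two_pow_mul_odd h
  have h1 : V2 m j := ⟨u, hu, e⟩
  rwa [ORD.val h1]

theorem Par.sq {z : ℤ} {a : ℕ} {s : Bool} (h : Par z a s) : Par (z ^ 2) (a + 1) true := by
  obtain ⟨ha, u, ⟨c, hc⟩, e⟩ := ORD.par_iff.1 h
  obtain ⟨b, rfl⟩ := Nat.exists_eq_add_of_le' ha
  refine ORD.par_iff.2 ⟨by omega, 2 ^ (b + 1) * u ^ 2 + bif s then u else -u, ?_, ?_⟩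
  · cases s
    · exact ⟨2 ^ b * u ^ 2 - c - 1, by simp only [cond_false]; rw [hc]; ring⟩
    · exact ⟨2 ^ b * u ^ 2 + c, by simp only [cond_true]; rw [hc]; ring⟩
  · rw [e]
    cases s <;> simp only [cond_false, cond_true] <;> ring

theorem Par.two_pow {z : ℤ} {a : ℕ} {s : Bool} (h : Par z a s) (j : ℕ) :
    Par (z ^ 2 ^ (j + 1)) (a + 1 + j) true := by
  induction j with
  | zero => simpa using h.sq
  | succ j ih => rw [pow_succ, pow_mul]; exact ih.sq

namespace ORD

theorem odd_pow {y : ℤ} {u k : ℕ} (hy : Odd y) (hu : Odd u) (h : V2 (y - 1).natAbs k) :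
    V2 (y ^ u - 1).natAbs k := by
  have e : ∀ n : ℕ, Even (∑ i ∈ Finset.range n, y ^ i - n) := fun n => by
    induction n with
    | zero => simp
    | succ n ih =>
      rw [Finset.sum_range_succ, Nat.cast_succ, add_sub_add_comm]
      exact ih.add (hy.pow.sub_odd odd_one)
  have o : Odd (∑ i ∈ Finset.range u, y ^ i) := by
    simpa using (e u).add_odd hu.natCast
  rw [← mul_geom_sum, Int.natAbs_mul]
  exact mul h (of_odd (Int.natAbs_odd.2 o))

theorem even_pow {z : ℤ} {a : ℕ} {s : Bool} (h : Par z a s) {m : ℕ} (hm : m ≠ 0) :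
    V2 (z ^ (2 * m) - 1).natAbs (a + 1 + padicValNat 2 m) := by
  obtain ⟨u, hu, e⟩ := V2.of_ne hm
  generalize padicValNat 2 m = j at e
  rw [e, ← mul_assoc, ← pow_succ', pow_mul]
  exact odd_pow (h.two_pow j).odd hu (sub_add (h.two_pow j)).1

theorem prodN {z : ℤ} {a : ℕ} {s : Bool} (h : Par z a s) (n : ℕ) :
    V2 (∏ i ∈ Finset.range n, (z ^ (i + 1) - 1).natAbs) (vN n a s) := by
  induction n with
  | zero => cases s <;> exact ⟨1, odd_one, by simp [vN, vL, vS]⟩
  | succ n ih =>
    rw [Finset.prod_range_succ]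
    obtain ⟨m, rfl | rfl⟩ := n.even_or_odd'
    · convert mul ih (odd_pow h.odd (odd_two_mul_add_one m) (sub_add h).1) using 1
      have e1 : (2 * m + 1) / 2 = m := by omega
      have e2 : 2 * m / 2 = m := by omega
      cases s <;> simp only [vN, vL, vS, e1, e2, cond_true, cond_false]
      · omega
      · ring
    · rw [show 2 * m + 1 + 1 = 2 * (m + 1) by ring]
      convert mul ih (even_pow h m.succ_ne_zero) using 1
      have e1 : (2 * m + 1) / 2 = m := by omega
      have e2 : 2 * (m + 1) / 2 = m + 1 := by omega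
      have e3 : padicValNat 2 (m + 1)! = padicValNat 2 (m + 1) + padicValNat 2 m ! := by
        rw [Nat.factorial_succ, padicValNat.mul m.succ_ne_zero m.factorial_ne_zero]
      have e4 : 2 * (m + 1) % 2 = 0 := by omega
      have e5 : (2 * m + 1) % 2 = 1 := by omega
      cases s <;> simp only [vN, vL, vS, e1, e2, e3, e4, e5, cond_true, cond_false,
        Nat.succ_eq_add_one] <;> ring

theorem ee_ee {a : ℕ} (ha : 2 ≤ a) (x : CC a) : (x ^ ee a false) ^ ee a false = x := by
  have hC : Nat.card (CC a) = 2 ^ (a + 1) := by simp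
  obtain ⟨b, rfl⟩ := Nat.exists_eq_add_of_le' (show 1 ≤ a by omega)
  obtain ⟨c, hc⟩ : ∃ c, 2 ^ b = c + 1 := ⟨2 ^ b - 1, by have := Nat.one_le_two_pow (n := b); omega⟩
  have : ee (b + 1) false * ee (b + 1) false = Nat.card (CC (b + 1)) * c + 1 := by
    rw [hC, show ee (b + 1) false = 2 * c + 1 by
      show 2 ^ (b + 1) - 1 = _
      rw [pow_succ, hc]; omega, pow_succ, pow_succ, hc]
    ring
  rw [← pow_mul, this, pow_succ, pow_mul, pow_card_eq_one', one_pow, one_mul]

theorem card_fix {a : ℕ} (ha : 2 ≤ a) : Nat.card {x : CC a // x ^ ee a false = x} = 2 := by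
  obtain ⟨b, rfl⟩ := Nat.exists_eq_add_of_le' ha
  obtain ⟨c, hc⟩ : ∃ c, 2 ^ b = c + 1 := ⟨2 ^ b - 1, by have := Nat.one_le_two_pow (n := b); omega⟩
  have e1 : ee (b + 2) false = 2 * (2 * c + 1) + 1 := by
    show 2 ^ (b + 2) - 1 = _
    rw [pow_add, hc]; omega
  rw [Nat.card_congr (Equiv.subtypeEquivRight (q := fun x => x ^ (2 * (2 * c + 1)) = 1)
    fun x => by rw [e1, pow_succ, mul_eq_right]), card_ker, pow_succ', Nat.gcd_mul_left,
    (Nat.Coprime.pow_left _ (Nat.coprime_two_left.2 ⟨c, rfl⟩)).gcd_eq_one]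

theorem w0_odd {n : ℕ} {i : Fin n} (h : i.1 % 2 = 1) : (w0 n i).1 = i.1 - 1 := by
  show (w0f n i).1 = _
  unfold w0f
  rw [if_neg (by omega)]

theorem w0_even {n : ℕ} {i : Fin n} (h : i.1 % 2 = 0) (h' : i.1 + 1 < n) : (w0 n i).1 = i.1 + 1 := by
  show (w0f n i).1 = _
  unfold w0f
  rw [if_pos h, dif_pos h']

theorem w0_last {n : ℕ} {i : Fin n} (h : i.1 % 2 = 0) (h' : ¬ i.1 + 1 < n) : w0 n i = i := by
  show w0f n i = _
  unfold w0f
  rw [if_pos h, dif_neg h']

theorem card_leftN (n : ℕ) {a : ℕ} (s : Bool) (ha : 2 ≤ a) :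
    Nat.card {t : Fin n → CC a // ∀ i, t (ww n s i) ^ ee a s = t i} = 2 ^ vL n a s := by
  have hC : Nat.card (CC a) = 2 ^ (a + 1) := by simp
  cases s
  · have l : Fin (n % 2) → n - 1 < n := fun j => by have := j.2; omega
    rw [Nat.card_eq_of_bijective
      (β := (Fin (n / 2) → CC a) × (Fin (n % 2) → {x : CC a // x ^ ee a false = x}))
      (fun t => (fun j => t.1 ⟨2 * j.1, by have := j.2; omega⟩, fun j => ⟨t.1 ⟨n - 1, l j⟩, by
          have := j.2
          have e := t.2 ⟨n - 1, l j⟩
          rw [show ww n false ⟨n - 1, _⟩ = _ from w0_last (by simp only; omega)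
            (by simp only; omega)] at e
          exact e⟩)) ⟨fun t u e => ?_, fun x => ?_⟩, Nat.card_prod,
      Nat.card_fun, Nat.card_fun, hC, card_fix ha]
    · simp only [vL, cond_false, Nat.card_fin, pow_add _ (n / 2 * (a + 1)), ← pow_mul, mul_comm (a + 1)]
    · obtain ⟨e0, e1⟩ := Prod.ext_iff.1 e
      have k : ∀ i : Fin n, i.1 % 2 = 0 → t.1 i = u.1 i := fun i hi => by
        have := i.2
        by_cases c : i.1 + 1 < n
        · have := congrFun e0 ⟨i.1 / 2, by omega⟩
          simp only at this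
          rwa [show (⟨2 * (i.1 / 2), _⟩ : Fin n) = i from Fin.ext (by simp only; omega)] at this
        · have := congrArg Subtype.val (congrFun e1 ⟨0, by omega⟩)
          simp only at this
          rwa [show (⟨n - 1, _⟩ : Fin n) = i from Fin.ext (by simp only; omega)] at this
      refine Subtype.ext (funext fun i => ?_)
      by_cases hi : i.1 % 2 = 0
      · exact k i hi
      · rw [← t.2, ← u.2, k (ww n false i) (by
          have : (ww n false i).1 = i.1 - 1 := w0_odd (by omega)
          omega)]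
    · refine ⟨⟨fun i => if h : i.1 % 2 = 0 then (if h' : i.1 + 1 < n then x.1 ⟨i.1 / 2, by omega⟩
        else (x.2 ⟨0, by have := i.2; omega⟩).1) else x.1 ⟨i.1 / 2, by have := i.2; omega⟩ ^ ee a false,
        fun i => ?_⟩, Prod.ext (funext fun j => ?_) (funext fun j => Subtype.ext ?_)⟩
      · have := i.2
        by_cases h : i.1 % 2 = 0
        · by_cases h' : i.1 + 1 < n
          · have e : (ww n false i).1 = i.1 + 1 := w0_even h h'
            simp only
            rw [dif_neg (by omega), dif_pos h, dif_pos h', ee_ee ha]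
            exact congrArg x.1 (Fin.ext (by simp only; omega))
          · rw [show ww n false i = i from w0_last h h']
            simp only
            rw [dif_pos h, dif_neg h']
            exact (x.2 _).2
        · have e : (ww n false i).1 = i.1 - 1 := w0_odd (by omega)
          simp only
          rw [dif_pos (by omega), dif_pos (by omega), dif_neg h]
          exact congrArg (x.1 · ^ ee a false) (Fin.ext (by simp only; omega))
      · have := j.2
        simp only
        rw [dif_pos (by omega), dif_pos (by omega)]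
        exact congrArg x.1 (Fin.ext (by simp only; omega))
      · have := j.2
        simp only
        rw [dif_pos (by omega), dif_neg (by omega)]
        exact congrArg (fun i => (x.2 i).1) (Fin.ext (by simp only; omega))
  · rw [Nat.card_congr ((Equiv.subtypeEquivRight (q := fun t => ∀ i, t i ^ 2 ^ a = 1) fun t =>
      forall_congr' fun i => by
        show t i ^ (2 ^ a + 1) = t i ↔ _
        rw [pow_succ, mul_eq_right]).trans
      (Equiv.subtypePiEquivPi (p := fun _ (x : CC a) => x ^ 2 ^ a = 1))), Nat.card_pi,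
      Finset.prod_const, card_ker, Nat.gcd_eq_right (pow_dvd_pow 2 a.le_succ), ← pow_mul]
    simp [vL, mul_comm]

theorem w0_sq (n : ℕ) : w0 n ^ 2 = 1 := Equiv.ext fun i => w0f_w0f n i

theorem card_cent (n : ℕ) : Nat.card (centralizer {w0 n}) = 2 ^ (n / 2) * (n / 2)! := by
  have c := Equiv.Perm.cycleType_of_pow_prime_eq_one (w0_sq n)
  have s := (w0 n).sum_cycleType
  have f : (w0 n).supportᶜ.card ≤ 1 := Finset.card_le_one.2 fun i hi j hj => by
    have k : ∀ i ∈ (w0 n).supportᶜ, i.1 + 1 = n := fun i hi => by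
      have e : (w0 n i).1 = i.1 := congrArg Fin.val (by simpa using hi)
      have := i.2
      by_contra c
      by_cases h : i.1 % 2 = 0
      · have := w0_even h (by omega); omega
      · have := w0_odd (i := i) (by omega); omega
    have := k i hi
    have := k j hj
    exact Fin.ext (by omega)
  have t := Finset.card_add_card_compl (w0 n).support
  rw [Equiv.Perm.nat_card_centralizer, s]
  generalize (w0 n).cycleType.card = m at c
  rw [c, Multiset.sum_replicate, smul_eq_mul] at s
  rw [Fintype.card_fin] at t ⊢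
  obtain rfl : m = n / 2 := by omega
  rw [c, Multiset.prod_replicate, Nat.factorial_eq_one.2 (by omega), one_mul,
    Multiset.toFinset_replicate]
  split_ifs with h
  · simp [h]
  · simp

end ORD

/-- A Sylow 2-subgroup of the centralizer of `w0 n`. -/
structure PS {n : ℕ} (P : Subgroup (Perm (Fin n))) : Prop where
  mem : w0 n ∈ P
  com : ∀ p ∈ P, p * w0 n = w0 n * p
  card : Nat.card P = 2 ^ vS n

theorem exists_PS (n : ℕ) : ∃ P : Subgroup (Perm (Fin n)), PS P := by
  let C := centralizer {w0 n}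
  let w : C := ⟨w0 n, mem_centralizer_singleton_iff.2 rfl⟩
  have h : IsPGroup 2 (zpowers w) := fun x => ⟨1, by
    obtain ⟨_, k, rfl⟩ := x
    refine Subtype.ext ?_
    show (w ^ k) ^ 2 ^ 1 = 1
    rw [pow_one, ← zpow_natCast, ← _root_.zpow_mul, mul_comm, _root_.zpow_mul, zpow_natCast,
      show w ^ 2 = 1 from Subtype.ext (ORD.w0_sq n), _root_.one_zpow]⟩
  obtain ⟨S, hS⟩ := h.exists_le_sylow
  refine ⟨S.1.map C.subtype, ⟨w, hS (mem_zpowers w), rfl⟩, ?_, ?_⟩
  · rintro _ ⟨p, -, rfl⟩
    exact mem_centralizer_singleton_iff.1 p.2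
  · rw [card_map_of_injective C.subtype_injective, S.card_eq_multiplicity,
      Nat.factorization_def _ Nat.prime_two, ORD.card_cent,
      padicValNat.mul (by positivity) (Nat.factorial_ne_zero _), padicValNat.prime_pow, vS]

/-- The common Sylow 2-subgroup. -/
def WN {n : ℕ} {P : Subgroup (Perm (Fin n))} (hP : PS P) (a : ℕ) (s : Bool) :
    Subgroup (Mo (Fin n) (CC a)) where
  carrier := {x | x.right ∈ P ∧ ∀ i, x.left (ww n s i) ^ ee a s = x.left i}
  one_mem' := ⟨P.one_mem, fun i => by simp⟩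
  mul_mem' {x y} hx hy := ⟨P.mul_mem hx.1 hy.1, fun i => by
    rw [Mo.mul_left, Mo.mul_left, mul_pow, hx.2, ww_comm s (hP.com _ (P.inv_mem hx.1)), hy.2]⟩
  inv_mem' {x} hx := ⟨P.inv_mem hx.1, fun i => by
    rw [Mo.inv_left, Mo.inv_left, inv_pow, ww_comm s (hP.com _ hx.1), hx.2]⟩

theorem mem_WN {n a : ℕ} {s : Bool} {P : Subgroup (Perm (Fin n))} {hP : PS P}
    {x : Mo (Fin n) (CC a)} : x ∈ WN hP a s ↔
      x.right ∈ P ∧ ∀ i, x.left (ww n s i) ^ ee a s = x.left i := Iff.rfl

variable {n a : ℕ} {s : Bool}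

theorem card_WN {P : Subgroup (Perm (Fin n))} (hP : PS P) (ha : 2 ≤ a) :
    Nat.card (WN hP a s) = 2 ^ vN n a s := by
  have e : WN hP a s ≃ {t : Fin n → CC a // ∀ i, t (ww n s i) ^ ee a s = t i} × P :=
    { toFun := fun x => (⟨x.1.left, x.2.2⟩, ⟨x.1.right, x.2.1⟩)
      invFun := fun x => ⟨⟨x.1, x.2⟩, x.2.2, x.1.2⟩
      left_inv := fun _ => rfl
      right_inv := fun _ => rfl }
  rw [Nat.card_congr e, Nat.card_prod, ORD.card_leftN n s ha, hP.card, vN, pow_add]

theorem v2_GLN (n : ℕ) {F : Type*} [Field F] [Finite F] (h : Par (Nat.card F) a s) :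
    V2 (Nat.card (GL (Fin n) F)) (vN n a s) := by
  have hq : 0 < Nat.card F := Nat.card_pos
  have ho : Odd (Nat.card F) := by exact_mod_cast h.odd
  have hp := ORD.prodN h n
  simp only [ORD.natAbs_sub hq] at hp
  rw [H10.card_GL_fin, Fin.prod_univ_eq_prod_range (fun i => Nat.card F ^ n - Nat.card F ^ i),
    Finset.prod_congr rfl (g := fun i => Nat.card F ^ i * (Nat.card F ^ (n - 1 - i + 1) - 1))
      fun i hi => by
        have := Finset.mem_range.1 hi
        rw [Nat.mul_sub, ← pow_add, mul_one]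
        congr 2; omega,
    Finset.prod_mul_distrib, Finset.prod_range_reflect (fun i => Nat.card F ^ (i + 1) - 1),
    Finset.prod_pow_eq_pow_sum]
  simpa using ORD.mul (ORD.of_odd ho.pow) hp

theorem v2_GUN (n : ℕ) {K : Type*} [Field K] [Fintype K] {r : ℕ} (hK : Fintype.card K = r ^ 2)
    (h : Par (-r) a s) : V2 (Nat.card (GU n K r)) (vN n a s) := by
  have : H11.U.IsSq K r := ⟨hK⟩
  have hr := H11.U.two_le_q K r
  have ho : Odd r := by exact_mod_cast (odd_neg.1 h.odd)
  have hp := ORD.prodN h n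
  rw [H11.U.card_GU, Finset.prod_congr rfl (g := fun i => ((-r : ℤ) ^ (i + 1) - 1).natAbs)
    fun i _ => ?_]
  · simpa using ORD.mul (ORD.of_odd ho.pow) hp
  split_ifs with hi
  · rw [hi.add_one.neg_pow, ← Int.natAbs_neg, neg_sub, sub_neg_eq_add, add_comm]
    rfl
  · rw [(Nat.not_even_iff_odd.1 hi).add_one.neg_pow, ORD.natAbs_sub (by omega)]

theorem auto_lemmas_Ord : True := by
  have := @vL.eq_1
  have := @vS.eq_1
  have := @vN.eq_1
  have := @WN.eq_1
  trivial

end H73.FL
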