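import Cfsg.Agent.Lib.FLU.BMO
import Cfsg.Agent.Lib.FLN.Ord

/-! # The monomial models in every dimension -/

set_option autoImplicit false

namespace H73.FL

open Subgroup Cfsg H69 Matrix H11.U
open Equiv (Perm)
open scoped MatrixGroups

universe v

section
variable {n a : ℕ} {s : Bool} {K : Type*} [Field K] {P : Subgroup (Perm (Fin n))}

/-- a diagonal matrix of given determinant of odd order that commutes with `WN` -/
theorem exists_dgN (h2 : 2 ≤ n) (hP : PS P) {l : Kˣ} (h : Odd (orderOf l)) :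
    ∃ d : Fin n → Kˣ, (∀ i, d i ∈ zpowers l) ∧ (∀ p ∈ P, ∀ i, d (p i) = d i) ∧ l * ∏ i, d i = 1 := by
  classical
  let o : Fin n := ⟨0, by omega⟩
  obtain ⟨k, hk⟩ := (IsPGroup.of_card hP.card).card_orbit o
  obtain ⟨m, hm⟩ := exists_pow_eq_self_of_coprime (x := l) (n := 2 ^ k)
    (Nat.Coprime.pow_left k ((Nat.coprime_two_left).2 h))
  refine ⟨fun i => if i ∈ MulAction.orbit P o then (l ^ m)⁻¹ else 1, fun i => ?_, fun p hp i => ?_, ?_⟩
  · dsimp only
    split_ifs
    exacts [inv_mem (pow_mem (mem_zpowers l) m), one_mem _]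
  · have : p i ∈ MulAction.orbit P o ↔ i ∈ MulAction.orbit P o :=
      ⟨fun ⟨g, e⟩ => ⟨(⟨p, hp⟩ : P)⁻¹ * g, by
        show (p⁻¹ * g.1) o = i
        rw [Perm.mul_apply, show g.1 o = p i from e]; simp⟩,
        fun ⟨g, e⟩ => ⟨⟨p, hp⟩ * g, congrArg p e⟩⟩
    simp only [this]
  · rw [← Finset.prod_filter, Finset.prod_const, ← Fintype.card_subtype, ← Nat.card_eq_fintype_card,
      hk, inv_pow, ← pow_mul, mul_comm m, pow_mul, hm, mul_inv_cancel]

theorem md_ofN [Finite K] (h2 : 2 ≤ n) (hP : PS P) (ha : 2 ≤ a) {χ : CC a →* Kˣ}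
    (inj : Function.Injective χ) (two : (2 : K) ≠ 0) {G S : Type*} [Group G] [Group S]
    (E : G →* GL (Fin n) K) (hE : Function.Injective E) (f : S →* G) (hf : Function.Injective f)
    (hr : ∀ g, g ∈ f.range ↔ E g ∈ SK (Fin n) K)
    (hz : ∀ A, A ∈ center S ↔ ∃ c : K, (E (f A)).1 = c • (1 : Matrix _ _ K))
    (hc : V2 (Nat.card G) (vN n a s)) (h : GL (Fin n) K) (Q : GL (Fin n) K → Prop)
    (hQ : ∀ g, h * g * h⁻¹ ∈ E.range ↔ Q g) (hW : ∀ x ∈ WN hP a s, Q (rho χ x))
    (ds : ∀ g, ∃ g', Q g' ∧ ∀ x y, Q x → Q y → y * g = g * x → y * g' = g' * x)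
    (hd : ∀ g c, Q g → ∀ d : Fin n → Kˣ, (∀ i, d i ∈ zpowers (GeneralLinearGroup.det g)) →
      (∀ i, d (ww n s i) = d i) → c.1 = diagonal (fun i => (d i : K)) → Q c) :
    ∃ (Γ : Subgroup (GL (Fin n) K)) (π : ↥(Γ ⊓ SK (Fin n) K) →* S ⧸ center S),
      Md χ (WN hP a s) Γ π := by
  let E' := (MulAut.conj h⁻¹).toMonoidHom.comp E
  have hE' : Function.Injective E' := (MulAut.conj h⁻¹).injective.comp hE
  have e' : ∀ g, E' g = h⁻¹ * E g * h := fun g => by simp [E']
  have m : ∀ g, g ∈ E'.range ↔ Q g := fun g => (exists_congr fun x => by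
    rw [e', mul_assoc, inv_mul_eq_iff_eq_mul, ← eq_mul_inv_iff_mul_eq]).trans (hQ g)
  have dt : ∀ g, E' g ∈ SK (Fin n) K ↔ E g ∈ SK (Fin n) K := fun g => by simp [e', MonoidHom.mem_ker]
  have r : (E'.comp f).range = E'.range ⊓ SK (Fin n) K := le_antisymm
    (by rintro _ ⟨x, rfl⟩; exact ⟨⟨_, rfl⟩, (dt _).2 ((hr _).1 ⟨x, rfl⟩)⟩)
    (by rintro _ ⟨⟨x, rfl⟩, hx⟩; obtain ⟨y, rfl⟩ := (hr _).2 ((dt _).1 hx); exact ⟨y, rfl⟩)
  let ε := (MonoidHom.ofInjective (f := E'.comp f) (hE'.comp hf)).trans (MulEquiv.subgroupCongr r)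
  have c1 : Nat.card ((WN hP a s).map (rho χ)) = 2 ^ vN n a s := by
    rw [card_map_of_injective (rho_inj inj), card_WN hP ha]
  have le : (WN hP a s).map (rho χ) ≤ E'.range := by
    rintro _ ⟨x, hx, rfl⟩
    exact (m _).2 (hW x hx)
  refine ⟨E'.range, (QuotientGroup.mk' _).comp ε.symm.toMonoidHom, inj, two,
    isSylowIn_of_not_dvd_relIndex (IsPGroup.of_card c1) le fun d => ?_, fun g => ?_, fun g hg o => ?_,
    (QuotientGroup.mk'_surjective _).comp ε.symm.surjective, fun g => ?_⟩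
  · obtain ⟨u, hu, e⟩ := hc
    have := card_mul_index (((WN hP a s).map (rho χ)).subgroupOf E'.range)
    rw [Nat.card_congr (subgroupOfEquivOfLe le).toEquiv, c1,
      ← Nat.card_congr (MonoidHom.ofInjective hE').toEquiv, e, mul_right_inj' (by positivity)] at this
    exact hu.not_two_dvd_nat (this ▸ d)
  · obtain ⟨g', q, e⟩ := ds g
    exact ⟨g', (m _).2 q, fun x hx y hy d => eq_mul_inv_of_mul_eq
      (e x y ((m _).1 hx) ((m _).1 hy) (by simp [d]))⟩
  · obtain ⟨d, d1, d2, d3⟩ := exists_dgN h2 hP (l := GeneralLinearGroup.det g)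
      (o.of_dvd_nat (orderOf_map_dvd _ g))
    let c : GL (Fin n) K := GeneralLinearGroup.mkOfDetNeZero (diagonal fun i => (d i : K))
      (by simp [Finset.prod_ne_zero_iff])
    refine ⟨c, (m _).2 (hd g c ((m _).1 hg) d d1 (fun i => ?_) rfl), fun x hx => ?_, ?_⟩
    · cases s
      exacts [d2 _ hP.mem i, rfl]
    · ext i j
      simp only [c, Units.val_mul, GeneralLinearGroup.val_mkOfDetNeZero, diagonal_mul, mul_diagonal,
        rho_apply]
      split_ifs with e
      · rw [e, d2 _ hx.1, mul_comm]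
      · simp
    · rw [MonoidHom.mem_ker, map_mul, ← d3]
      congr 1
      ext
      simp [c]
  · obtain ⟨A, rfl⟩ := ε.surjective g
    have : ((ε A).1 : Matrix _ _ K) = (h⁻¹).1 * (E (f A)).1 * h.1 := congrArg Units.val (e' (f A))
    simp only [MonoidHom.comp_apply, MulEquiv.coe_toMonoidHom, MulEquiv.symm_apply_apply,
      QuotientGroup.mk'_apply, QuotientGroup.eq_one_iff, hz, this]
    refine exists_congr fun c => ⟨fun e => by simp [e], fun e => ?_⟩
    have := congrArg (fun X => h.1 * X * (h⁻¹).1) e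
    simpa [mul_assoc] using this

end

variable {n a : ℕ} {s : Bool} {Q : Subgroup (Perm (Fin n))}

open MOD MODL in
theorem exists_mdLN (h2 : 2 ≤ n) (hQ : PS Q) {F : Type v} [Field F] [Finite F]
    (h : Par (Nat.card F) a s) : ∃ (K : Type v) (_ : Field K) (_ : Finite K) (χ : CC a →* Kˣ)
      (Γ : Subgroup (GL (Fin n) K)) (π : ↥(Γ ⊓ SK (Fin n) K) →* PSL(n, F)),
      Md χ (WN hQ a s) Γ π := by
  obtain ⟨p, hp⟩ := CharP.exists F
  have := Fact.mk (CharP.char_is_prime F p)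
  obtain ⟨K, _, _, hK⟩ : ∃ (K : Type v) (_ : Field K) (_ : Fintype K),
      Fintype.card K = Nat.card F ^ 2 := ⟨ULift.{v} (FiniteField.Extension F p 2), inferInstance,
    Fintype.ofFinite _, Fintype.card_eq_nat_card.trans (by
      rw [Nat.card_ulift, FiniteField.natCard_extension])⟩
  have : IsSq K (Nat.card F) := ⟨hK⟩
  have := Fintype.ofFinite F
  obtain ⟨i, hi⟩ := exists_embedding K (Nat.card F) F Nat.card_eq_fintype_card.symm
  obtain ⟨two, χ, inj⟩ := chi_of hK h rfl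
  obtain ⟨θ, h0, hθ⟩ := exists_trace_zero K (Nat.card F)
  obtain ⟨P, p1, -, p3, p4⟩ := exists_P n s K
  set φ : K →+* K := cj (Nat.card F) with hφ
  obtain ⟨t, ht⟩ := exists_h φ p1 (p3 φ) h0 hθ two
  have pp : ∀ X, P * (P * X) = X := fun X => by rw [← mul_assoc, p1, one_mul]
  let σ : Matrix (Fin n) (Fin n) K →+* Matrix (Fin n) (Fin n) K :=
    { toFun X := P * X.map φ * P
      map_one' := by simp [p1]
      map_mul' X Y := by simp [Matrix.map_mul, mul_assoc, pp]
      map_zero' := by simp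
      map_add' X Y := by simp [Matrix.map_add _ φ.map_add, mul_add, add_mul] }
  have hσ : ∀ X j k, σ X j k = φ (X (ww n s j) (ww n s k)) := fun X => p4 _
  refine ⟨K, inferInstance, inferInstance, χ, md_ofN h2 hQ h.two inj two (GeneralLinearGroup.map i)
    (fun x y e => Units.ext (Matrix.map_injective i.injective (congrArg Units.val e)))
    SpecialLinearGroup.toGL SpecialLinearGroup.toGL_injective (fun g => ?_) (fun A => ?_)
    (v2_GLN n h) t (fun g => σ g = g) (fun g => ?_) (fun x hx => ?_) (fun g => ?_)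
    fun g c q d d1 d2 e => ?_⟩
  · rw [MonoidHom.mem_ker, GeneralLinearGroup.map_det, Units.ext_iff]
    refine .trans ⟨?_, fun e => ⟨⟨g, e⟩, Units.ext rfl⟩⟩ (map_eq_one_iff i i.injective).symm
    rintro ⟨A, rfl⟩
    exact A.2
  · refine ⟨fun e => ?_, fun ⟨c, e⟩ => mem_center_iff.2 fun B => Subtype.ext
      (Matrix.map_injective i.injective ?_)⟩
    · obtain ⟨r, -, e⟩ := Matrix.SpecialLinearGroup.mem_center_iff.1 e
      refine ⟨i r, ?_⟩
      change A.1.map i = _
      rw [← e]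
      ext j k
      simp [Matrix.one_apply, diagonal_apply, apply_ite i]
    · change A.1.map i = _ at e
      simp [Matrix.map_mul, e]
  · have u : (t⁻¹).1.map φ = P * (t⁻¹).1 := by
      have : (t⁻¹).1.map φ * (t.1 * P) = 1 := by rw [← ht, ← Matrix.map_mul]; simp
      calc _ = (t⁻¹).1.map φ * (t.1 * P) * (P * (t⁻¹).1) := by simp [mul_assoc, pp]
        _ = _ := by rw [this, one_mul]
    rw [mem_range hi, Units.val_mul, Units.val_mul, Matrix.map_mul, Matrix.map_mul, ht, u,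
      ← mul_assoc, Units.mul_left_inj, mul_assoc, mul_assoc, Units.mul_right_inj, ← mul_assoc]
    rfl
  · ext j k
    rw [hσ, rho_apply, rho_apply, ww_comm s (hQ.com _ hx.1), apply_ite φ, map_zero, hφ, cj_apply,
      ← Units.val_pow_eq_pow_val, ← map_pow, ← zpow_natCast, cc_pow h, hx.2]
    simp
  · obtain ⟨g', e, d⟩ := desc_hom σ (θ := θ • 1) (fun X => Matrix.ext fun j k => by
      rw [hσ, hσ, ww_ww, ww_ww, H11.U.cj_cj]) (unit_sm h0) (by simp)
      (Matrix.ext fun j k => by by_cases c : j = k <;> simp [hσ, c, hθ]) (unit_two two) g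
    exact ⟨g', e, fun x y hx hy c => Units.ext (d x y hx hy (congrArg Units.val c))⟩
  · have l : φ g.1.det = g.1.det := (φ.map_det _).trans ((det_P p1 _).symm.trans (congrArg det q))
    ext j k
    obtain ⟨m, hm⟩ := d1 j
    rw [hσ, e]
    simp [diagonal_apply, apply_ite φ, d2, ← hm, l]

open MOD MODU in
theorem exists_mdUN (h2 : 2 ≤ n) (hQ : PS Q) {K : Type*} [Field K] [Fintype K]
    {r : ℕ} (hK : Fintype.card K = r ^ 2) (h : Par (-r) a s) : ∃ (χ : CC a →* Kˣ)
      (Γ : Subgroup (GL (Fin n) K)) (π : ↥(Γ ⊓ SK (Fin n) K) →* PSU n K r),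
      Md χ (WN hQ a s) Γ π := by
  have : IsSq K r := ⟨hK⟩
  obtain ⟨two, χ, inj⟩ := chi_of hK h (neg_sq _)
  obtain ⟨θ, h0, hθ⟩ := exists_trace_zero K r
  obtain ⟨β, hβ⟩ := exists_norm_eq (F := K) (q := r) (c := -1) (by simp)
  obtain ⟨P, p1, p2, p3, p4⟩ := exists_P n s K
  have cc := H11.U.cj_cj (F := K) (q := r)
  set φ : K →+* K := cj r with hφ
  obtain ⟨t, ht⟩ := exists_h φ p1 (p3 φ) p2 hβ two
  have pp : ∀ X, P * (P * X) = X := fun X => by rw [← mul_assoc, p1, one_mul]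
  let σ : Matrix (Fin n) (Fin n) K →+ Matrix (Fin n) (Fin n) K :=
    { toFun X := P * (X.map φ)ᵀ * P
      map_zero' := by simp
      map_add' X Y := by simp [Matrix.map_add _ φ.map_add, mul_add, add_mul] }
  have hσ : ∀ X j k, σ X j k = φ (X (ww n s k) (ww n s j)) := fun X => p4 _
  have eσ : ∀ X, σ X = P * (X.map φ)ᵀ * P := fun X => rfl
  have iso : ∀ X : Matrix (Fin n) (Fin n) K, IsIso r X ↔ (X.map φ)ᵀ * X = 1 := fun X => by
    have : ∀ Y : Matrix (Fin n) (Fin n) K, (Y.map φ).map φ = Y := fun Y => Matrix.ext fun j k => cc _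
    rw [isIso_iff]
    refine ⟨fun e => ?_, fun e => ?_⟩ <;> have d := congrArg (·.map φ) e <;>
      simp only [Matrix.map_mul, transpose_map, ← hφ, this, Matrix.map_one _ φ.map_zero φ.map_one] at d <;>
      exact d
  refine ⟨χ, md_ofN h2 hQ h.two inj two (GU n K r).subtype (subtype_injective _) (suToGU n K r)
    suToGU_injective (fun g => mem_range_suToGU.trans ⟨fun e => Units.ext e, congrArg Units.val⟩)
    (fun A => mem_center_SU_iff h2) (v2_GUN n hK h) t (fun g => σ g * g = 1) (fun g => ?_)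
    (fun x hx => ?_) (fun g => ?_) fun g c q d d1 d2 e => ?_⟩
  · rw [range_subtype, mem_GU, iso, eσ, Units.val_mul, Units.val_mul, Matrix.map_mul, Matrix.map_mul,
      transpose_mul, transpose_mul]
    have u : ((t⁻¹).1.map φ)ᵀ * (t.1.map φ)ᵀ = 1 := by
      rw [← transpose_mul, ← Matrix.map_mul]; simp
    have u' := mul_eq_one_comm.1 u
    refine ⟨fun e => ?_, fun e => ?_⟩
    · have := congrArg (fun X => P * ((t.1.map φ)ᵀ * X * t.1)) e
      simp only [mul_assoc, Units.inv_mul, mul_one, ht, p1] at this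
      simp only [← mul_assoc, u', one_mul] at this
      rw [← this, ← ht]
      simp only [mul_assoc]
    · have := congrArg (fun X => ((t⁻¹).1.map φ)ᵀ * (P * X * (t⁻¹).1)) e
      simp only [mul_assoc, pp, one_mul] at this
      rw [← ht] at this
      simp only [mul_assoc, Units.mul_inv, mul_one, u] at this ⊢
      exact this
  · have : σ (rho χ x) = (rho χ x⁻¹).1 := by
      ext j k
      rw [hσ, rho_apply, rho_apply, ww_comm s (hQ.com _ hx.1), apply_ite φ, map_zero, hφ, cj_apply,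
        ← Units.val_pow_eq_pow_val, ← map_pow, ← zpow_natCast, ← neg_neg (r : ℤ), _root_.zpow_neg,
        cc_pow h, hx.2, Mo.inv_left]
      simp only [EmbeddingLike.apply_eq_iff_eq, SemidirectProduct.inv_right, Perm.eq_inv_iff_eq,
        eq_comm (a := k)]
      split_ifs with c
      · rw [c]
      · rfl
    rw [this, ← Units.val_mul, ← map_mul, inv_mul_cancel, map_one, Units.val_one]
  · obtain ⟨g', e, d⟩ := desc_anti σ (θ := θ • 1)
      (fun X Y => by simp [eσ, Matrix.map_mul, mul_assoc, pp]) (by simp [eσ, p1])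
      (fun X => Matrix.ext fun j k => by rw [hσ, hσ, ww_ww, ww_ww, cc]) (unit_sm h0) (by simp)
      (Matrix.ext fun j k => by by_cases c : j = k <;> simp [hσ, c, hθ, Ne.symm]) (unit_two two) g
    exact ⟨g', e, d⟩
  · have l : φ g.1.det = g.1.det⁻¹ := eq_inv_of_mul_eq_one_left (by
      have := congrArg det q
      rwa [det_mul, eσ, det_P p1, det_transpose, det_one, ← RingHom.mapMatrix_apply, ← φ.map_det] at this)
    ext j k
    obtain ⟨m, hm⟩ := d1 j
    rw [e, mul_diagonal, hσ]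
    by_cases c : j = k
    · subst c
      simp [d2, ← hm, l, inv_mul_cancel₀ (zpow_ne_zero m g.det_ne_zero)]
    · simp [c, Ne.symm c]

theorem fe_LLN (h2 : 2 ≤ n) {F F' : Type*} [Field F] [Finite F] [Field F'] [Finite F']
    (h : Par (Nat.card F) a s) (h' : Par (Nat.card F') a s) : FE PSL(n, F') PSL(n, F) := by
  obtain ⟨Q, hQ⟩ := exists_PS n
  obtain ⟨K, _, _, χ, Γ, π, m⟩ := exists_mdLN h2 hQ h
  obtain ⟨K', _, _, χ', Γ', π', m'⟩ := exists_mdLN h2 hQ h'
  exact m'.fe m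

theorem fe_ULN (h2 : 2 ≤ n) {F K' : Type*} [Field F] [Finite F] [Field K'] [Fintype K'] {r : ℕ}
    (h : Par (Nat.card F) a s) (hK : Fintype.card K' = r ^ 2) (h' : Par (-r) a s) :
    FE (PSU n K' r) PSL(n, F) := by
  obtain ⟨Q, hQ⟩ := exists_PS n
  obtain ⟨K, _, _, χ, Γ, π, m⟩ := exists_mdLN h2 hQ h
  obtain ⟨χ', Γ', π', m'⟩ := exists_mdUN h2 hQ hK h'
  exact m'.fe m

theorem par_ofN {K : Type*} [Field K] [Fintype K] (h : Odd (Fintype.card K)) :
    ∃ a s, Par (Nat.card K) a s := by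
  have := Fintype.one_lt_card (α := K)
  rw [Nat.card_eq_fintype_card]
  exact exists_par (Odd.natCast h) (by omega) (by omega)

theorem one_lt_ofN {K : Type*} [Field K] [Fintype K] {r : ℕ} (h : Fintype.card K = r ^ 2) :
    1 < r := by
  have := Fintype.one_lt_card (α := K)
  rw [h] at this
  exact (Nat.one_lt_pow_iff two_ne_zero).1 this

/-- The groups on the list have the 2-fusion system of `PSL(n, F)`. -/
theorem fe_all (h2 : 2 ≤ n) {G F : Type*} [Group G] [Finite G] [Field F] [Fintype F] {q : ℕ}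
    (hFq : Fintype.card F = q) (hq : Odd q)
    (e : (∃ (F' : Type) (_ : Field F') (_ : Fintype F') (q' : ℕ), Fintype.card F' = q' ∧ Odd q' ∧
      padicValNat 2 (q' - 1) = padicValNat 2 (q - 1) ∧ padicValNat 2 (q' + 1) = padicValNat 2 (q + 1) ∧
      Nonempty (G ≃* PSL(n, F'))) ∨
    (∃ (F' : Type) (_ : Field F') (_ : Fintype F') (q' : ℕ), Fintype.card F' = q' ^ 2 ∧ Odd q' ∧
      padicValNat 2 (q' + 1) = padicValNat 2 (q - 1) ∧ padicValNat 2 (q' - 1) = padicValNat 2 (q + 1) ∧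
      Nonempty (G ≃* PSU n F' q'))) : FE G PSL(n, F) := by
  subst hFq
  obtain ⟨a, s, h⟩ := par_ofN hq
  have ha := h.two
  obtain ⟨v1, v2, -⟩ := h.val Finite.one_lt_card
  rw [Nat.card_eq_fintype_card] at v1 v2
  rw [v1, v2] at e
  rcases e with ⟨K, _, _, _, rfl, h1, w1, w2, ⟨d⟩⟩ | ⟨K, _, _, r, h1, h3, w1, w2, ⟨d⟩⟩ <;>
    refine (FE.of_equiv d).trans ?_
  · obtain ⟨a', s', h'⟩ := par_ofN h1
    have := h'.two
    obtain ⟨u1, u2, -⟩ := h'.val Finite.one_lt_card
    rw [Nat.card_eq_fintype_card] at u1 u2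
    obtain ⟨rfl, rfl⟩ : a' = a ∧ s' = s := by
      rw [u1] at w1; rw [u2] at w2
      cases s <;> cases s' <;> simp at w1 w2 ⊢ <;> omega
    exact fe_LLN h2 h h'
  · have r1 := one_lt_ofN h1
    obtain ⟨a', s', h'⟩ := exists_par (z := -r) (Odd.neg (Odd.natCast h3)) (by omega) (by omega)
    have := h'.two
    obtain ⟨u1, u2, -⟩ := Par.val (q := r) (by simpa using h'.neg) r1
    obtain ⟨rfl, rfl⟩ : a' = a ∧ s' = s := by
      rw [u2] at w1; rw [u1] at w2
      cases s <;> cases s' <;> simp at w1 w2 ⊢ <;> omega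
    exact fe_ULN h2 h h1 h'

end H73.FL
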